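/- Preliminaries for fixed-point-free automorphisms of prime power order. -/
import Mathlib
import Cfsg.Agent.PrimeFPF.Spectral

set_option autoImplicit false

namespace Cfsg.Agent.FPFPower

open Finset
open scoped commutatorElement

section Group

variable {G : Type*} [Group G]

/-- A coset fixed by an automorphism of `p`-power order contains a fixed point. -/
theorem exists_fixed_in_coset {p k : ℕ} [hp : Fact p.Prime] (β : MulAut G) (hβ : β ^ p ^ k = 1) (R : Subgroup G)
    [Finite R] (hR : ∀ y ∈ R, β y ∈ R) (hcop : ¬ p ∣ Nat.card R) {a : G} (ha : a⁻¹ * β a ∈ R) :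
    ∃ r ∈ R, β (a * r) = a * r := by
  classical
  haveI := Fintype.ofFinite R
  let f : R → R := fun r => ⟨a⁻¹ * β a * β r, mul_mem ha (hR r r.2)⟩
  have hfi : Function.Injective f := fun r s h =>
    Subtype.ext (β.injective (mul_left_cancel (congrArg Subtype.val h)))
  let e : Equiv.Perm R := Equiv.ofBijective f (Finite.injective_iff_bijective.mp hfi)
  have he : ∀ (i : ℕ) (r : R), ((e ^ i) r : G) = a⁻¹ * (β ^ i) (a * r) := by
    intro i r
    induction i with
    | zero => simp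
    | succ i ih =>
      rw [pow_succ', Equiv.Perm.mul_apply, pow_succ', MulAut.mul_apply]
      show a⁻¹ * β a * β ((e ^ i) r : G) = _
      rw [ih, map_mul, map_inv]
      group
  have hpow : e ^ p ^ k = 1 := Equiv.ext fun r => Subtype.ext (by rw [he, hβ]; simp)
  obtain ⟨r, hr⟩ := Equiv.Perm.exists_fixed_point_of_prime (by rwa [← Nat.card_eq_fintype_card]) hpow
  refine ⟨r, r.2, ?_⟩
  have := congrArg Subtype.val hr
  change a⁻¹ * β a * β r = (r : G) at this
  rw [map_mul]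
  calc β a * β r = a * (a⁻¹ * β a * β r) := by group
    _ = a * r := by rw [this]

theorem symm_mem {R : Subgroup G} [Finite R] (β : MulAut G) (hR : ∀ y ∈ R, β y ∈ R) {y : G} (hy : y ∈ R) :
    β.symm y ∈ R := by
  have hsurj : Function.Surjective (fun r : R => (⟨β r, hR r r.2⟩ : R)) :=
    Finite.injective_iff_surjective.mp fun r s h => Subtype.ext (β.injective (congrArg Subtype.val h))
  obtain ⟨r, hr⟩ := hsurj ⟨y, hy⟩
  rw [← show β (r : G) = y from congrArg Subtype.val hr, MulEquiv.symm_apply_apply]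
  exact r.2

theorem pow_apply_mem {R : Subgroup G} (β : MulAut G) (hR : ∀ y ∈ R, β y ∈ R) (i : ℕ) {y : G} (hy : y ∈ R) :
    (β ^ i) y ∈ R := by
  induction i with
  | zero => simpa
  | succ i ih => rw [pow_succ', MulAut.mul_apply]; exact hR _ ih

/-- In a cyclic group of order dividing `p^(n+1)`, the element of order `p` is a power of every nontrivial one. -/
theorem exists_pow_eq_pow {M : Type*} [Monoid M] {p n m : ℕ} (hp : p.Prime) {g : M} (hg : g ^ p ^ (n + 1) = 1)
    (hm : ¬ p ^ (n + 1) ∣ m) : ∃ c : ℕ, g ^ p ^ n = (g ^ m) ^ c := by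
  obtain ⟨s, hs, hgcd⟩ := (Nat.dvd_prime_pow hp).mp (Nat.gcd_dvd_right m (p ^ (n + 1)))
  have hsn : s ≤ n := by
    by_contra h
    have : s = n + 1 := by omega
    exact hm (this ▸ hgcd ▸ Nat.gcd_dvd_left m (p ^ (n + 1)))
  have hlt : Nat.gcd m (p ^ (n + 1)) < p ^ (n + 1) := by
    rw [hgcd]; exact Nat.pow_lt_pow_right hp.one_lt (by omega)
  obtain ⟨c, -, hc⟩ := Nat.exists_mul_mod_eq_gcd hlt
  refine ⟨c * p ^ (n - s), ?_⟩
  rw [pow_mul, ← pow_mul g m c, pow_eq_pow_mod (m * c) hg, hc, hgcd, ← pow_mul, ← pow_add,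
    show s + (n - s) = n by omega]

end Group

/-- Orbit count for a permutation acting semiregularly away from one point. -/
theorem card_orbits_semiregular {X : Type*} [Fintype X] [DecidableEq X] (π : Equiv.Perm X) (x₀ : X) {N : ℕ}
    (hN : 0 < N) (hπ : π ^ N = 1) (h0 : π x₀ = x₀) (hne : ∃ u, u ≠ x₀)
    (hsemi : ∀ i, 0 < i → i < N → ∀ u, (π ^ i) u = u → u = x₀)
    [Fintype (Quotient (MulAction.orbitRel (Subgroup.zpowers π) X))] :
    Fintype.card (Quotient (MulAction.orbitRel (Subgroup.zpowers π) X)) * N = (N - 1) + Fintype.card X := by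
  classical
  obtain ⟨u₀, hu₀⟩ := hne
  have hord : orderOf π = N := by
    refine (orderOf_eq_iff hN).mpr ⟨hπ, fun i hi hi0 h => hu₀ (hsemi i hi0 hi u₀ ?_)⟩
    rw [h]; rfl
  let H := Subgroup.zpowers π
  letI : Fintype H := Fintype.ofFinite _
  have hburn := MulAction.sum_card_fixedBy_eq_card_orbits_mul_card_group H X
  have hfixed : ∀ g : H, g ≠ 1 → Fintype.card (MulAction.fixedBy X g) = 1 := by
    rintro ⟨g, hg⟩ hg1
    obtain ⟨i, rfl⟩ := mem_powers_iff_mem_zpowers.mpr hg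
    have hi : i % N ≠ 0 := fun h => hg1 (Subtype.ext (by
      show π ^ i = 1
      rw [pow_eq_pow_mod i hπ, h, pow_zero]))
    rw [Fintype.card_eq_one_iff]
    refine ⟨⟨x₀, ?_⟩, fun ⟨u, hu⟩ => Subtype.ext ?_⟩
    · show (π ^ i) x₀ = x₀
      exact Function.IsFixedPt.perm_zpow (e := π) h0 (i : ℤ)
    · refine hsemi (i % N) (Nat.pos_of_ne_zero hi) (Nat.mod_lt _ hN) u ?_
      rw [← pow_eq_pow_mod i hπ]
      exact hu
  rw [← Finset.sum_erase_add _ _ (Finset.mem_univ (1 : H)),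
    Finset.sum_congr rfl fun g hg => hfixed g (Finset.ne_of_mem_erase hg), Finset.sum_const,
    Finset.card_erase_of_mem (Finset.mem_univ _), Finset.card_univ, smul_eq_mul, mul_one] at hburn
  have hH : Fintype.card H = N := by rw [← Nat.card_eq_fintype_card, Nat.card_zpowers, hord]
  have hfix1 : Fintype.card (MulAction.fixedBy X (1 : H)) = Fintype.card X :=
    Fintype.card_congr (Equiv.subtypeUnivEquiv fun u => one_smul H u)
  rw [hfix1, hH] at hburn
  exact hburn.symm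

/-- The arithmetic behind the exceptional case: if `p^e = 2^a + 1` divides ... then `2 a p^j ∣ D`. -/
theorem two_mul_dvd_of_dvd {p a e j N D : ℕ} (hp : p.Prime) (hp2 : p ≠ 2) (he : 0 < e) (ha : 0 < a)
    (hpe : p ^ e = 2 ^ a + 1) (hD : 0 < D) (hdvd : p ^ N ∣ 2 ^ D - 1) (hjN : e + j ≤ N) : 2 * a * p ^ j ∣ D := by
  haveI := Fact.mk hp
  have hdvd' : p ^ e ∣ 2 ^ D - 1 := (Nat.pow_dvd_pow p (by omega)).trans hdvd
  have hone : ∀ {k : ℕ}, p ^ e ∣ 2 ^ k - 1 ↔ (2 : ZMod (p ^ e)) ^ k = 1 := by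
    intro k
    rw [← ZMod.natCast_eq_zero_iff, Nat.cast_sub Nat.one_le_two_pow, sub_eq_zero]
    simp
  have hsq : 2 ^ (2 * a) - 1 = (2 ^ a + 1) * (2 ^ a - 1) := by
    rw [← Nat.sq_sub_sq, one_pow, ← pow_mul, mul_comm a 2]
  have h2a : p ^ e ∣ 2 ^ (2 * a) - 1 := by rw [hsq, hpe]; exact dvd_mul_right _ _
  have hg : p ^ e ∣ 2 ^ Nat.gcd (2 * a) D - 1 := hone.mpr (pow_gcd_eq_one.mpr ⟨hone.mp h2a, hone.mp hdvd'⟩)
  have hgeq : 2 * a ∣ D := by
    set g := Nat.gcd (2 * a) D with hgdef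
    obtain ⟨k, hk⟩ : g ∣ 2 * a := Nat.gcd_dvd_left _ _
    have hg0 : 0 < g := Nat.gcd_pos_of_pos_right _ hD
    rcases Nat.lt_or_ge k 2 with hk2 | hk2
    · interval_cases k
      · omega
      · rw [hk, mul_one]; exact Nat.gcd_dvd_right _ _
    · exfalso
      have hga : g ≤ a := by nlinarith
      have h1 : 2 ^ g ≤ 2 ^ a := Nat.pow_le_pow_right (by norm_num) hga
      have h2 : 1 < 2 ^ g := Nat.one_lt_two_pow hg0.ne'
      have h3 := Nat.le_of_dvd (by omega) hg
      omega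
  obtain ⟨k, rfl⟩ := hgeq
  have hk : k ≠ 0 := by rintro rfl; simp at hD
  refine Nat.mul_dvd_mul_left _ ?_
  have hnd : ¬ p ∣ 2 := fun h => hp2 ((Nat.prime_dvd_prime_iff_eq hp Nat.prime_two).mp h)
  have hv : padicValNat p ((2 ^ (2 * a)) ^ k - 1 ^ k) = padicValNat p (2 ^ (2 * a) - 1) + padicValNat p k :=
    padicValNat.pow_sub_pow (hp.odd_of_ne_two hp2) (Nat.one_lt_two_pow (by omega))
      ((dvd_pow_self p he.ne').trans h2a) (fun h => hnd (hp.dvd_of_dvd_pow h)) hk
  have hv2 : padicValNat p (2 ^ (2 * a) - 1) = e := by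
    have hnd2 : ¬ p ∣ 2 ^ a - 1 := fun h => hnd (by
      have h1 : p ∣ 2 ^ a + 1 := hpe ▸ dvd_pow_self p he.ne'
      have h2 := Nat.dvd_sub h1 h
      rwa [show 2 ^ a + 1 - (2 ^ a - 1) = 2 by have := Nat.one_le_two_pow (n := a); omega] at h2)
    have hne : 2 ^ a - 1 ≠ 0 := by
      intro h0; exact hnd2 (h0 ▸ dvd_zero p)
    rw [hsq, padicValNat.mul (by omega) hne, padicValNat.eq_zero_of_not_dvd hnd2, ← hpe,
      padicValNat.prime_pow, add_zero]
  rw [one_pow, ← pow_mul, hv2] at hv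
  have hne : 2 ^ (2 * a * k) - 1 ≠ 0 := by
    have : 1 < 2 ^ (2 * a * k) := Nat.one_lt_two_pow (by
      exact Nat.mul_ne_zero (by omega) hk)
    omega
  have hle := (padicValNat_dvd_iff_le hne).mp hdvd
  rw [hv] at hle
  exact (Nat.pow_dvd_pow p (show j ≤ padicValNat p k by omega)).trans pow_padicValNat_dvd

end Cfsg.Agent.FPFPower
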