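/- Operators of finite order: eigenbases and the dimension of the centralizer. -/
import Mathlib
import Cfsg.Agent.FPFPower.Centralizer

set_option autoImplicit false

namespace Cfsg.Agent.FPFPower

open Module Finset
open Cfsg.Agent.PrimeFPF (proj T_proj sum_proj)

variable {K : Type*} [Field K] [IsAlgClosed K] {W : Type*} [AddCommGroup W] [Module K W] [FiniteDimensional K W]

theorem exists_eigenbasis {T : Module.End K W} {N : ℕ} (hN : (N : K) ≠ 0) (hT : T ^ N = 1) :
    ∃ (b : Basis (Fin (finrank K W)) K W) (μ : Fin (finrank K W) → K), ∀ i, T (b i) = μ i • b i := by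
  classical
  have hN0 : N ≠ 0 := fun h => hN (by simp [h])
  haveI : NeZero (N : K) := ⟨hN⟩
  obtain ⟨w, hw⟩ := HasEnoughRootsOfUnity.exists_primitiveRoot K N
  have hwj : ∀ j : ℕ, (w ^ j) ^ N = 1 := fun j => by rw [pow_right_comm, hw.pow_eq_one, one_pow]
  let E : Set W := {v | ∃ μ : K, T v = μ • v}
  have hspan : ⊤ ≤ Submodule.span K E := by
    intro v _
    rw [← sum_proj (T := T) hw hN v]
    exact Submodule.sum_mem _ fun j _ => Submodule.subset_span ⟨w ^ j, LinearMap.congr_fun (T_proj hT (hwj j) hN0) v⟩
  obtain ⟨s, hsE, hsspan, hsli⟩ := exists_linearIndependent K E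
  let b₀ : Basis s K W := Basis.mk hsli (by rw [Subtype.range_coe, hsspan]; exact hspan)
  haveI : Fintype s := FiniteDimensional.fintypeBasisIndex b₀
  let e : s ≃ Fin (finrank K W) := Fintype.equivFinOfCardEq (finrank_eq_card_basis b₀).symm
  choose μ hμ using fun x : s => hsE x.2
  refine ⟨b₀.reindex e, fun i => μ (e.symm i), fun i => ?_⟩
  rw [Basis.reindex_apply]
  simp only [b₀, Basis.mk_apply]
  exact hμ _

omit [IsAlgClosed K] in
/-- Diagonal operators commute with `T`, and so does a further one if an eigenvalue repeats. -/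
theorem finrank_le_centEnd_of_basis {T : Module.End K W} (b : Basis (Fin (finrank K W)) K W)
    (μ : Fin (finrank K W) → K) (hb : ∀ i, T (b i) = μ i • b i) :
    finrank K W ≤ finrank K (centEnd T) ∧
      ((∃ i j, i ≠ j ∧ μ i = μ j) → finrank K W + 1 ≤ finrank K (centEnd T)) := by
  classical
  let D : (Fin (finrank K W) → K) →ₗ[K] centEnd T :=
    LinearMap.codRestrict (centEnd T)
      { toFun := fun c => b.constr K fun i => c i • b i
        map_add' := fun c c' => b.ext fun i => by
          simp only [LinearMap.add_apply, Basis.constr_basis, Pi.add_apply, add_smul]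
        map_smul' := fun r c => b.ext fun i => by simp [smul_smul] }
      fun c => mem_centEnd.mpr (b.ext fun i => by simp [hb, smul_smul, mul_comm])
  have hD : ∀ c i, (D c : Module.End K W) (b i) = c i • b i := fun c i => b.constr_basis K _ i
  have hinj : Function.Injective D := by
    intro c c' h
    funext i
    have h1 := hD c i
    rw [h, hD c' i] at h1
    exact (smul_left_injective K (b.ne_zero i) h1).symm
  refine ⟨(finrank_fin_fun (R := K)).symm.le.trans (LinearMap.finrank_le_finrank_of_injective hinj), ?_⟩
  rintro ⟨i, j, hij, hμ⟩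
  let f : Module.End K W := b.constr K fun l => if l = i then b j else 0
  have hfT : f ∈ centEnd T := mem_centEnd.mpr (b.ext fun l => by
    by_cases hl : l = i
    · subst hl; simp [f, hb, hμ]
    · simp [f, hb, hl])
  let F : centEnd T := ⟨f, hfT⟩
  let D' : ((Fin (finrank K W) → K) × K) →ₗ[K] centEnd T :=
    D.coprod (LinearMap.toSpanSingleton K _ F)
  have hinj' : Function.Injective D' := by
    rw [← LinearMap.ker_eq_bot, LinearMap.ker_eq_bot']
    rintro ⟨c, r⟩ h
    have h1 := congrArg (fun g : centEnd T => (g : Module.End K W) (b i)) h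
    simp only [D', LinearMap.coprod_apply, LinearMap.toSpanSingleton_apply, Submodule.coe_add,
      LinearMap.add_apply, hD, SetLike.val_smul, LinearMap.smul_apply, F, f, Basis.constr_basis, if_true,
      ZeroMemClass.coe_zero, LinearMap.zero_apply] at h1
    have h2 := congrArg (fun v => b.repr v j) h1
    simp [hij] at h2
    subst h2
    simp only [D', LinearMap.coprod_apply, LinearMap.toSpanSingleton_apply, zero_smul, add_zero] at h
    exact Prod.ext (hinj (h.trans (map_zero D).symm)) rfl
  have := LinearMap.finrank_le_finrank_of_injective hinj'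
  rwa [finrank_prod, finrank_fin_fun, finrank_self] at this

theorem finrank_le_centEnd {T : Module.End K W} {N : ℕ} (hN : (N : K) ≠ 0) (hT : T ^ N = 1) :
    finrank K W ≤ finrank K (centEnd T) := by
  obtain ⟨b, μ, hb⟩ := exists_eigenbasis hN hT
  exact (finrank_le_centEnd_of_basis b μ hb).1

omit [IsAlgClosed K] in
theorem sq_fixed_le_centEnd {T : Module.End K W} {N : ℕ} (hN : (N : K) ≠ 0) (hT : T ^ N = 1) :
    finrank K (LinearMap.ker (T - 1)) ^ 2 ≤ finrank K (centEnd T) := by
  set F := LinearMap.ker (T - 1) with hF
  let P : Module.End K W := (N : K)⁻¹ • ∑ i ∈ range N, T ^ i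
  have hTP : T * P = P := by
    simp only [P, mul_smul_comm, Finset.mul_sum, ← pow_succ']
    congr 1
    have e := Finset.sum_range_succ (fun i => T ^ i) N
    rw [Finset.sum_range_succ', hT, pow_zero] at e
    exact add_right_cancel e
  have hPT : P * T = P := by
    simp only [P, smul_mul_assoc, Finset.sum_mul, ← pow_succ]
    congr 1
    have e := Finset.sum_range_succ (fun i => T ^ i) N
    rw [Finset.sum_range_succ', hT, pow_zero] at e
    exact add_right_cancel e
  have hPF : ∀ v, P v ∈ F := fun v => LinearMap.mem_ker.mpr (by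
    rw [LinearMap.sub_apply, Module.End.one_apply, ← Module.End.mul_apply, hTP, sub_self])
  have hPid : ∀ v ∈ F, P v = v := by
    intro v hv
    have hTv : T v = v := sub_eq_zero.mp (LinearMap.mem_ker.mp hv)
    have hi : ∀ i : ℕ, (T ^ i) v = v := fun i => by
      induction i with
      | zero => rfl
      | succ i ih => rw [pow_succ, Module.End.mul_apply, hTv, ih]
    simp only [P, LinearMap.smul_apply, LinearMap.sum_apply, hi, Finset.sum_const, Finset.card_range]
    rw [← Nat.cast_smul_eq_nsmul K, smul_smul, inv_mul_cancel₀ hN, one_smul]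
  let L : Module.End K F →ₗ[K] centEnd T :=
    LinearMap.codRestrict (centEnd T)
      { toFun := fun g => F.subtype ∘ₗ g ∘ₗ (P.codRestrict F hPF)
        map_add' := fun g g' => LinearMap.ext fun v => by simp
        map_smul' := fun r g => LinearMap.ext fun v => by simp }
      fun g => mem_centEnd.mpr (LinearMap.ext fun v => by
        show T (g (P.codRestrict F hPF v) : W) = (g (P.codRestrict F hPF (T v)) : W)
        rw [show P.codRestrict F hPF (T v) = P.codRestrict F hPF v from Subtype.ext (LinearMap.congr_fun hPT v)]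
        exact sub_eq_zero.mp (LinearMap.mem_ker.mp (g (P.codRestrict F hPF v)).2))
  have hinj : Function.Injective L := by
    intro g g' h
    refine LinearMap.ext fun v => Subtype.ext ?_
    have h1 := congrArg (fun q : centEnd T => (q : Module.End K W) (v : W)) h
    change ((g (P.codRestrict F hPF v) : F) : W) = (g' (P.codRestrict F hPF v) : F) at h1
    rwa [show P.codRestrict F hPF (v : W) = v from Subtype.ext (hPid v v.2)] at h1
  have := LinearMap.finrank_le_finrank_of_injective hinj
  rwa [finrank_linearMap, ← sq] at this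

/-- Powers of a cyclic semisimple operator are independent. -/
theorem pow_independent_of_centEnd {T : Module.End K W} {N : ℕ} (hN : (N : K) ≠ 0) (hT : T ^ N = 1)
    (hC : finrank K (centEnd T) ≤ finrank K W) (c : ℕ → K)
    (h : ∑ k ∈ range (finrank K W), c k • T ^ k = 0) : ∀ k < finrank K W, c k = 0 := by
  classical
  obtain ⟨b, μ, hb⟩ := exists_eigenbasis hN hT
  have hμ : Function.Injective μ := by
    intro i j hij
    by_contra hne
    have := (finrank_le_centEnd_of_basis b μ hb).2 ⟨i, j, hne, hij⟩
    omega
  have hroot : ∀ i, ∑ k ∈ range (finrank K W), c k * μ i ^ k = 0 := by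
    intro i
    have hk : ∀ k : ℕ, (T ^ k) (b i) = μ i ^ k • b i := fun k => by
      induction k with
      | zero => simp
      | succ k ih => rw [pow_succ', Module.End.mul_apply, ih, map_smul, hb, smul_smul, pow_succ]
    have h1 := LinearMap.congr_fun h (b i)
    simp only [LinearMap.sum_apply, LinearMap.smul_apply, hk, smul_smul, ← Finset.sum_smul, LinearMap.zero_apply] at h1
    exact (smul_eq_zero.mp h1).resolve_right (b.ne_zero i)
  intro k hk
  let p : Polynomial K := ∑ l ∈ range (finrank K W), Polynomial.C (c l) * Polynomial.X ^ l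
  have hp : p = 0 := by
    refine Polynomial.eq_zero_of_natDegree_lt_card_of_eval_eq_zero p hμ (fun i => ?_) ?_
    · simp [p, Polynomial.eval_finsetSum, hroot]
    · rw [Fintype.card_fin]
      refine lt_of_le_of_lt (Polynomial.natDegree_sum_le_of_forall_le _ _ fun l hl => ?_)
        (show finrank K W - 1 < finrank K W by omega)
      exact (Polynomial.natDegree_C_mul_X_pow_le _ _).trans (by rw [mem_range] at hl; omega)
  have := congrArg (fun q => Polynomial.coeff q k) hp
  simpa [p, Polynomial.finsetSum_coeff, Polynomial.coeff_C_mul, Polynomial.coeff_X_pow, hk] using this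

omit [IsAlgClosed K] in
/-- Powers of a cyclic unipotent operator are independent. -/
theorem pow_independent_of_nilpotent {T : Module.End K W} {d : ℕ}
    (hne : (T - 1) ^ d ≠ 0) (hz : (T - 1) ^ (d + 1) = 0) (c : ℕ → K)
    (h : ∑ k ∈ range (d + 1), c k • T ^ k = 0) : ∀ k < d + 1, c k = 0 := by
  classical
  set M := T - 1 with hM
  let v : Fin (d + 1) → Module.End K W := fun k => M ^ (k : ℕ)
  have hli : LinearIndependent K v := by
    rw [Fintype.linearIndependent_iff]
    intro g hg
    by_contra hh
    push Not at hh
    obtain ⟨i, hi, hmin⟩ := Finset.exists_min_image (Finset.univ.filter fun i => g i ≠ 0) (fun i => (i : ℕ))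
      (by obtain ⟨i, hi⟩ := hh; exact ⟨i, by simp [hi]⟩)
    rw [Finset.mem_filter] at hi
    have h1 := congrArg (fun q => q * M ^ (d - i)) hg
    simp only [Finset.sum_mul, v, smul_mul_assoc, ← pow_add, zero_mul] at h1
    rw [Finset.sum_eq_single i] at h1
    · rw [show (i : ℕ) + (d - i) = d by omega] at h1
      exact hi.2 ((smul_eq_zero.mp h1).resolve_right hne)
    · intro l _ hl
      by_cases hgl : g l = 0
      · rw [hgl, zero_smul]
      · have hle := hmin l (by simp [hgl])
        have : (l : ℕ) ≠ i := fun e => hl (Fin.ext e)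
        rw [pow_eq_zero_of_le (show d + 1 ≤ (l : ℕ) + (d - i) by omega) hz, smul_zero]
    · simp
  have hspan : ∀ k : Fin (d + 1), v k ∈ Submodule.span K (Set.range fun l : Fin (d + 1) => T ^ (l : ℕ)) := by
    intro k
    show M ^ (k : ℕ) ∈ _
    rw [hM, sub_eq_add_neg, (Commute.one_right T).neg_right.add_pow]
    refine Submodule.sum_mem _ fun l hl => ?_
    rw [Finset.mem_range] at hl
    have he : T ^ l * (-1 : Module.End K W) ^ ((k : ℕ) - l) * ((Nat.choose k l : ℕ) : Module.End K W) =
        ((-1 : K) ^ ((k : ℕ) - l) * (Nat.choose k l : ℕ)) • T ^ l := by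
      rw [show (-1 : Module.End K W) = algebraMap K _ (-1) by simp, ← map_pow,
        show ((Nat.choose k l : ℕ) : Module.End K W) = algebraMap K _ (Nat.choose k l : ℕ) by simp, mul_assoc,
        ← map_mul, ← Algebra.commutes, Algebra.smul_def]
    rw [he]
    exact Submodule.smul_mem _ _ (Submodule.subset_span ⟨⟨l, by omega⟩, rfl⟩)
  have hli' : LinearIndependent K fun l : Fin (d + 1) => T ^ (l : ℕ) := by
    rw [linearIndependent_iff_card_le_finrank_span]
    rw [← finrank_span_eq_card hli]
    exact Submodule.finrank_mono (Submodule.span_le.mpr fun _ ⟨k, hk⟩ => hk ▸ hspan k)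
  rw [Fintype.linearIndependent_iff] at hli'
  intro k hk
  exact hli' (fun l => c l) (by rw [Fin.sum_univ_eq_sum_range (fun l => c l • T ^ l)]; exact h) ⟨k, hk⟩

end Cfsg.Agent.FPFPower
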